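import Cfsg.Agent.OddHalf.D8.Fi22.Rigid
import Cfsg.Agent.OddHalf.D8.Fi22.Geo
import Cfsg.Agent.OddHalf.D8.WreathLam
import Cfsg.Agent.OddHalf.D8.Wreath

-- merged: Cfsg.Agent.OddHalf.D8.Fi22.Diag
section

/-!
# ODD half, D8, `K = Fi₂₂`: the swapped case (helper956)

`a` a transposition of `K ≤ C_G(t)`, `D` a component of `C_G(a)` with `[D, Dᵗ] = 1` and
`C_K(a) = {m mᵗ : m ∈ D}`. Then `K = {w wᵗ : w ∈ E}` for some `E` with `[E, Eᵗ] = 1` (structure `Wr`), and
`C_G(t)` permutes `E`, `Eᵗ`.
-/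

set_option autoImplicit false

namespace Cfsg.Agent.OddHalf.D8.Fi22

open Subgroup
open scoped commutatorElement

variable {G : Type*} [Group G]

/-! ### `D` and `Dᵗ` -/

/-- `D` commutes with `D^t` -/
structure Tw (t : G) (D : Subgroup G) : Prop where
  tt : t * t = 1
  comm : ∀ x ∈ D, ∀ y ∈ D, x * (t * y * t) = t * y * t * x

/-- `φ m = m m^t` -/
def ph (t x : G) : G := x * (t * x * t)

namespace Tw

variable {t : G} {D : Subgroup G}

theorem tinv (h : Tw t D) : t⁻¹ = t := inv_eq_of_mul_eq_one_right h.tt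

theorem sg_mul (h : Tw t D) (x y : G) : t * (x * y) * t = t * x * t * (t * y * t) := by
  calc t * (x * y) * t = t * x * (t * t) * y * t := by rw [h.tt]; group
    _ = _ := by group

theorem sg_sg (h : Tw t D) (x : G) : t * (t * x * t) * t = x := by
  calc t * (t * x * t) * t = (t * t) * x * (t * t) := by group
    _ = x := by rw [h.tt]; group

theorem sg_inv (h : Tw t D) (x : G) : t * x⁻¹ * t = (t * x * t)⁻¹ := by
  rw [mul_inv_rev, mul_inv_rev, h.tinv, ← mul_assoc]

theorem ph_mul (h : Tw t D) {x y : G} (hx : x ∈ D) (hy : y ∈ D) : ph t (x * y) = ph t x * ph t y := by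
  unfold ph
  rw [h.sg_mul]
  have := h.comm y hy x hx
  calc x * y * (t * x * t * (t * y * t)) = x * (y * (t * x * t)) * (t * y * t) := by group
    _ = x * (t * x * t * y) * (t * y * t) := by rw [this]
    _ = _ := by group

theorem ph_one (h : Tw t D) : ph t 1 = 1 := by
  unfold ph
  rw [mul_one, one_mul, h.tt]

theorem ph_inv (h : Tw t D) {x : G} (hx : x ∈ D) : ph t x⁻¹ = (ph t x)⁻¹ := by
  apply eq_inv_of_mul_eq_one_left
  rw [← h.ph_mul (inv_mem hx) hx, inv_mul_cancel, h.ph_one]

theorem ph_t (h : Tw t D) {x : G} (hx : x ∈ D) : ph t x * t = t * ph t x := by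
  have h1 : t * ph t x * t = ph t x := by
    unfold ph
    rw [h.sg_mul, h.sg_sg]
    exact (h.comm x hx x hx).symm
  calc ph t x * t = t * ph t x * t * t := by rw [h1]
    _ = t * ph t x * (t * t) := by group
    _ = t * ph t x := by rw [h.tt, mul_one]

/-- `φ` as a homomorphism -/
def hom (h : Tw t D) : D →* G where
  toFun x := ph t x
  map_one' := h.ph_one
  map_mul' x y := h.ph_mul x.2 y.2

theorem hom_apply (h : Tw t D) (x : D) : h.hom x = ph t x := rfl

/-- an element of the kernel of `φ` is central -/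
theorem ker_central (h : Tw t D) {k : G} (hk : k ∈ D) (hk1 : ph t k = 1) {x : G} (hx : x ∈ D) :
    k * x = x * k := by
  have h1 : k = (t * k * t)⁻¹ := eq_inv_of_mul_eq_one_left hk1
  have h2 : Commute x (t * k * t) := h.comm x hx k hk
  have h3 : Commute x k := by rw [h1]; exact h2.inv_right
  exact h3.eq.symm

theorem ph_comm (h : Tw t D) {x y : G} (hx : x ∈ D) (hy : y ∈ D) :
    ph t (x * y * x⁻¹ * y⁻¹) = ph t x * ph t y * (ph t x)⁻¹ * (ph t y)⁻¹ := by
  rw [h.ph_mul (mul_mem (mul_mem hx hy) (inv_mem hx)) (inv_mem hy),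
    h.ph_mul (mul_mem hx hy) (inv_mem hx), h.ph_mul hx hy, h.ph_inv hx, h.ph_inv hy]

/-- elements of `D` act on `D` as their images under `φ` -/
theorem conj_eq (h : Tw t D) {x m : G} (hx : x ∈ D) (hm : m ∈ D) :
    ph t m * x * (ph t m)⁻¹ = m * x * m⁻¹ := by
  unfold ph
  have h1 := h.comm x hx m hm
  calc m * (t * m * t) * x * (m * (t * m * t))⁻¹ = m * (t * m * t * x) * (t * m * t)⁻¹ * m⁻¹ := by group
    _ = m * (x * (t * m * t)) * (t * m * t)⁻¹ * m⁻¹ := by rw [h1]
    _ = _ := by group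

/-- a perfect cover of a perfect subgroup of `φ(D)` -/
theorem exists_cov [Finite G] (h : Tw t D) {P : Subgroup G} (hP : ⁅P, P⁆ = P)
    (hPD : ∀ p ∈ P, ∃ m ∈ D, ph t m = p) : ∃ A : Subgroup G, A ≤ D ∧ ⁅A, A⁆ = A ∧
    (∀ a ∈ A, ph t a ∈ P) ∧ ∀ p ∈ P, ∃ a ∈ A, ph t a = p := by
  have hne : ∃ B : Subgroup D, B.map h.hom = P := by
    refine ⟨P.comap h.hom, ?_⟩
    rw [map_comap_eq]
    apply inf_eq_right.2
    intro p hp
    obtain ⟨m, hm, hmp⟩ := hPD p hp
    exact ⟨⟨m, hm⟩, hmp⟩
  obtain ⟨B, hB, hmin⟩ := WellFounded.has_min (wellFounded_lt : WellFounded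
    ((· < ·) : Subgroup D → Subgroup D → Prop)) {B | B.map h.hom = P} hne
  have hB' : B.map h.hom = P := hB
  have h1 : ⁅B, B⁆ = B := by
    by_contra hne1
    have hlt : ⁅B, B⁆ < B := lt_of_le_of_ne (commutator_le_self B) hne1
    apply hmin ⁅B, B⁆ _ hlt
    show (⁅B, B⁆).map h.hom = P
    rw [map_commutator, hB', hP]
  refine ⟨B.map D.subtype, ?_, ?_, ?_, ?_⟩
  · rintro _ ⟨x, -, rfl⟩
    exact x.2
  · rw [← map_commutator, h1]
  · rintro _ ⟨x, hx, rfl⟩
    rw [← hB']
    exact ⟨x, hx, rfl⟩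
  · intro p hp
    rw [← hB'] at hp
    obtain ⟨x, hx, rfl⟩ := hp
    exact ⟨x, ⟨x, hx, rfl⟩, rfl⟩

/-- an element of `D` whose image centralises `φ(D)` is central -/
theorem central_of (h : Tw t D) (hD : ⁅D, D⁆ = D) {u : G} (hu : u ∈ D)
    (huP : ∀ m ∈ D, ph t u * ph t m = ph t m * ph t u) : ∀ m ∈ D, u * m = m * u := by
  apply WreathLam.comm_of_perfect hD {k | k ∈ D ∧ ph t k = 1}
  · intro a ha
    refine ⟨mul_mem (mul_mem (mul_mem hu ha) (inv_mem hu)) (inv_mem ha), ?_⟩
    rw [h.ph_comm hu ha, huP _ ha]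
    group
  · rintro k ⟨hk, hk1⟩ a ha
    exact h.ker_central hk hk1 ha
  · rintro k ⟨hk, hk1⟩ l ⟨hl, -⟩
    exact h.ker_central hk hk1 hl

end Tw

/-! ### The configuration -/

/-- the swapped case -/
structure Dg (t a : G) (K D : Subgroup G) (T : Set G) : Prop where
  kf : KF K T
  tw : Tw t D
  Kt : ∀ k ∈ K, k * t = t * k
  aT : a ∈ T
  Da : ∀ m ∈ D, m * a = a * m
  perf : ⁅D, D⁆ = D
  diag : ∀ m ∈ D, ph t m ∈ K
  surj : ∀ k ∈ K, k * a = a * k → ∃ m ∈ D, ph t m = k
  /-- the conjugates of `D` in `C(a)` -/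
  comps : ∀ g : G, g * a = a * g → g ∈ normalizer (D : Set G) ∨ t * g ∈ normalizer (D : Set G) ∨
    ∀ m ∈ D, ∀ n ∈ D, g * m * g⁻¹ * n = n * (g * m * g⁻¹) ∧
      g * m * g⁻¹ * (t * n * t) = t * n * t * (g * m * g⁻¹)

namespace Dg

variable {t a : G} {K D : Subgroup G} {T : Set G}

theorem aK (h : Dg t a K D T) : a ∈ K := h.kf.TK a h.aT

theorem aa (h : Dg t a K D T) : a * a = 1 := h.kf.sq a h.aT

theorem a1 (h : Dg t a K D T) : a ≠ 1 := fun e => h.kf.one (e ▸ h.aT)

theorem ta (h : Dg t a K D T) : t * a = a * t := (h.Kt a h.aK).symm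

/-- `φ(m)` commutes with `a` -/
theorem ph_a (h : Dg t a K D T) {m : G} (hm : m ∈ D) : ph t m * a = a * ph t m := by
  have h1 := h.Da m hm
  have h2 : t * m * t * a = a * (t * m * t) := by
    calc t * m * t * a = t * m * (t * a) := by group
      _ = t * (m * a) * t := by rw [h.ta]; group
      _ = (t * a) * m * t := by rw [h1]; group
      _ = a * (t * m * t) := by rw [h.ta]; group
  unfold ph
  calc m * (t * m * t) * a = m * (t * m * t * a) := by group
    _ = (m * a) * (t * m * t) := by rw [h2]; group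
    _ = a * (m * (t * m * t)) := by rw [h1]; group

/-- the group `J = C_K(a)` -/
def J (a : G) (K : Subgroup G) : Subgroup G := K ⊓ centralizer ({a} : Set G)

theorem mem_J {k : G} : k ∈ J a K ↔ k ∈ K ∧ k * a = a * k := by
  unfold J
  rw [mem_inf, mem_centralizer_singleton_iff]

theorem ph_mem_J (h : Dg t a K D T) {m : G} (hm : m ∈ D) : ph t m ∈ J a K :=
  mem_J.2 ⟨h.diag m hm, h.ph_a hm⟩

/-- `φ` as a homomorphism onto `J` -/
def φ (h : Dg t a K D T) : D →* J a K where
  toFun x := ⟨ph t x, h.ph_mem_J x.2⟩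
  map_one' := Subtype.ext h.tw.ph_one
  map_mul' x y := Subtype.ext (h.tw.ph_mul x.2 y.2)

theorem φ_coe (h : Dg t a K D T) (x : D) : ((h.φ x : J a K) : G) = ph t x := rfl

theorem φ_surj (h : Dg t a K D T) : Function.Surjective h.φ := by
  rintro ⟨k, hk⟩
  obtain ⟨h1, h2⟩ := mem_J.1 hk
  obtain ⟨m, hm, hmk⟩ := h.surj k h1 h2
  exact ⟨⟨m, hm⟩, Subtype.ext hmk⟩

/-- the quotient `J / Z(J)` -/
abbrev L (a : G) (K : Subgroup G) : Type _ := J a K ⧸ center (J a K)

/-- the epimorphism of `D` to `J / Z(J)` -/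
def ψ (h : Dg t a K D T) : D →* L a K := (QuotientGroup.mk' (center (J a K))).comp h.φ

theorem ψ_apply (h : Dg t a K D T) (x : D) : h.ψ x = ((h.φ x : J a K) : L a K) := rfl

theorem ψ_surj (h : Dg t a K D T) : Function.Surjective h.ψ :=
  (QuotientGroup.mk'_surjective _).comp h.φ_surj

theorem ψ_ker (h : Dg t a K D T) : h.ψ.ker = center D := by
  ext x
  rw [MonoidHom.mem_ker, ψ_apply, QuotientGroup.eq_one_iff, mem_center_iff, mem_center_iff]
  constructor
  · intro h1 g
    apply Subtype.ext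
    refine (h.tw.central_of h.perf x.2 ?_ g g.2).symm
    intro m hm
    have := congrArg (fun y : J a K => (y : G)) (h1 (h.φ ⟨m, hm⟩))
    exact this.symm
  · intro h1 g
    obtain ⟨y, rfl⟩ := h.φ_surj g
    rw [← map_mul, ← map_mul, h1 y]

/-- the centre of `J` -/
theorem center_J (h : Dg t a K D T) {x : J a K} (hx : x ∈ center (J a K)) :
    (x : G) = 1 ∨ (x : G) = a := by
  rw [mem_center_iff] at hx
  obtain ⟨h1, h2⟩ := mem_J.1 x.2
  apply h.kf.cenJ a h.aT x h1 h2
  intro j hj hja
  exact (congrArg (fun y : J a K => (y : G)) (hx ⟨j, mem_J.2 ⟨hj, hja⟩⟩)).symm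

/-- the points of `L` -/
def pts (a : G) (K : Subgroup G) (T : Set G) : Set (L a K) :=
  {y | ∃ c : J a K, (c : G) ∈ T ∧ (c : G) ≠ a ∧ (c : L a K) = y}

/-- two transpositions of `J` commute if they commute modulo the centre -/
theorem comm_iff (h : Dg t a K D T) {c d : J a K} (hc : (c : G) ∈ T) (hd : (d : G) ∈ T) :
    (c : L a K) * (d : L a K) = (d : L a K) * (c : L a K) ↔ (c : G) * d = d * c := by
  constructor
  · intro h1
    rw [← QuotientGroup.mk_mul, ← QuotientGroup.mk_mul, QuotientGroup.eq] at h1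
    have h2 := h.center_J h1
    have h3 : ((((c * d)⁻¹ * (d * c) : J a K)) : G) = ((c : G) * d)⁻¹ * (d * c) := rfl
    rw [h3] at h2
    rcases h2 with h2 | h2
    · exact inv_mul_eq_one.1 h2
    · rcases h.kf.three c hc d hd with h4 | h4
      · exact h4
      · have hdd := h.kf.sq d hd
        have hcc := h.kf.sq c hc
        -- `d c = c d a`
        have h5 : (d : G) * c = c * d * a := inv_mul_eq_iff_eq_mul.1 h2
        have h6 : (c : G) * d * c * d = d * c := by
          rw [h4]
          calc (d : G) * c * d * d = d * c * (d * d) := by group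
            _ = d * c := by rw [hdd, mul_one]
        have h7 : (c : G) * d * c * d = a := by
          calc (c : G) * d * c * d = c * (d * c) * d := by group
            _ = c * (c * d * a) * d := by rw [h5]
            _ = (c * c) * d * (a * d) := by group
            _ = (c * c) * d * (d * a) := by rw [(mem_J.1 d.2).2]
            _ = (c * c) * (d * d) * a := by group
            _ = a := by rw [hcc, hdd, one_mul, one_mul]
        have h8 : (d : G) * c = a := h6.symm.trans h7
        rw [h8] at h5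
        have h9 : (c : G) * d = 1 := (mul_eq_right.1 h5.symm)
        rw [h9, h8]
        exfalso
        -- `c = d`, so `d c = 1`
        have h10 : (d : G) * c = 1 := by
          have : (c : G) = (d : G)⁻¹ := eq_inv_of_mul_eq_one_left h9
          rw [this, mul_inv_cancel]
        exact h.a1 (h8.symm.trans h10)
  · intro h1
    rw [← QuotientGroup.mk_mul, ← QuotientGroup.mk_mul]
    congr 1
    exact Subtype.ext h1

theorem b_J (h : Dg t a K D T) {b : G} (hb : b ∈ T) (hab : a * b = b * a) : b ∈ J a K :=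
  mem_J.2 ⟨h.kf.TK b hb, hab.symm⟩

/-- the rigidity hypotheses for `L` -/
theorem rig (h : Dg t a K D T) {b : G} (hb : b ∈ T) (hne : a ≠ b) (hab : a * b = b * a) :
    Rig (pts a K T) ((⟨b, h.b_J hb hab⟩ : J a K) : L a K) := by
  set b' : J a K := ⟨b, h.b_J hb hab⟩ with hb'
  have hb'T : (b' : G) ∈ T := hb
  refine
    { sq := ?_, bP := ⟨b', hb, hne.symm, rfl⟩, conj := ?_, one := ?_, three := ?_, gen := ?_, opp := ?_,
      conn := ?_ }
  · rintro _ ⟨c, hc, -, rfl⟩
    rw [← QuotientGroup.mk_mul]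
    have : c * c = 1 := Subtype.ext (h.kf.sq c hc)
    rw [this, QuotientGroup.mk_one]
  · rintro k _ ⟨c, hc, hca, rfl⟩
    obtain ⟨k, rfl⟩ := QuotientGroup.mk_surjective k
    refine ⟨k * c * k⁻¹, h.kf.conj k (mem_J.1 k.2).1 c hc, ?_, rfl⟩
    intro e
    apply hca
    have e' : (k : G) * c * (k : G)⁻¹ = a := e
    have hk := (mem_J.1 k.2).2
    calc (c : G) = (k : G)⁻¹ * ((k : G) * c * (k : G)⁻¹) * k := by group
      _ = (k : G)⁻¹ * (a * k) := by rw [e']; group
      _ = (k : G)⁻¹ * (k * a) := by rw [hk]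
      _ = a := by group
  · rintro _ ⟨c, hc, hca, rfl⟩
    obtain ⟨k, hk, hka, hkb⟩ := h.kf.trans a h.aT b hb a h.aT c hc hne hca.symm hab
      (mem_J.1 c.2).2.symm
    have hkJ : k ∈ J a K := mem_J.2 ⟨hk, mul_inv_eq_iff_eq_mul.1 hka⟩
    refine ⟨((⟨k, hkJ⟩ : J a K) : L a K), ?_⟩
    rw [← QuotientGroup.mk_inv, ← QuotientGroup.mk_mul, ← QuotientGroup.mk_mul]
    congr 1
    exact Subtype.ext hkb
  · rintro _ ⟨c, hc, -, rfl⟩ _ ⟨d, hd, -, rfl⟩
    rcases h.kf.three c hc d hd with h1 | h1
    · left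
      exact (h.comm_iff hc hd).2 h1
    · right
      rw [← QuotientGroup.mk_mul, ← QuotientGroup.mk_mul, ← QuotientGroup.mk_mul,
        ← QuotientGroup.mk_mul]
      congr 1
      exact Subtype.ext h1
  · -- generation
    rw [eq_top_iff]
    intro y _
    obtain ⟨k, rfl⟩ := QuotientGroup.mk_surjective y
    obtain ⟨hk1, hk2⟩ := mem_J.1 k.2
    have key : ∀ x : G, x ∈ closure {c | c ∈ T ∧ c * a = a * c} →
        ∃ hx : x ∈ J a K, ((⟨x, hx⟩ : J a K) : L a K) ∈ closure (pts a K T) := by
      intro x hx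
      induction hx using closure_induction with
      | mem c hc =>
        obtain ⟨hc1, hc2⟩ := hc
        have hcJ : c ∈ J a K := mem_J.2 ⟨h.kf.TK c hc1, hc2⟩
        refine ⟨hcJ, ?_⟩
        by_cases hca : c = a
        · have : ((⟨c, hcJ⟩ : J a K) : L a K) = 1 := by
            rw [QuotientGroup.eq_one_iff, mem_center_iff]
            intro g
            apply Subtype.ext
            show (g : G) * c = c * g
            rw [hca]
            exact (mem_J.1 g.2).2
          rw [this]
          exact one_mem _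
        · exact subset_closure ⟨⟨c, hcJ⟩, hc1, hca, rfl⟩
      | one => exact ⟨one_mem _, one_mem _⟩
      | mul x y _ _ h1 h2 =>
        obtain ⟨hx, hx'⟩ := h1
        obtain ⟨hy, hy'⟩ := h2
        exact ⟨mul_mem hx hy, mul_mem hx' hy'⟩
      | inv x _ h1 =>
        obtain ⟨hx, hx'⟩ := h1
        exact ⟨inv_mem hx, inv_mem hx'⟩
    obtain ⟨_, h3⟩ := key k (h.kf.genJ a h.aT k hk1 hk2)
    exact h3
  · rintro _ ⟨c, hc, hca, rfl⟩ _ ⟨c', hc', hca', rfl⟩ h1 h2 h3
    rw [ne_eq, h.comm_iff hc hb'T] at h1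
    rw [ne_eq, h.comm_iff hc' hb'T] at h2
    rcases h.kf.opp a h.aT b hb hne hab c hc c' hc' (mem_J.1 c.2).2 (mem_J.1 c'.2).2 h1 h2 (by
      intro d hd hda hdb
      by_cases hda' : d = a
      · have e1 := (mem_J.1 c.2).2
        have e2 := (mem_J.1 c'.2).2
        rw [hda']
        exact ⟨fun _ => e2.symm, fun _ => e1.symm⟩
      · have hdJ : d ∈ J a K := mem_J.2 ⟨h.kf.TK d hd, hda⟩
        have h4 := h3 ((⟨d, hdJ⟩ : J a K) : L a K) ⟨⟨d, hdJ⟩, hd, hda', rfl⟩
          ((h.comm_iff (c := ⟨d, hdJ⟩) hd hb'T).2 hdb)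
        rwa [h.comm_iff (c := ⟨d, hdJ⟩) hd hc, h.comm_iff (c := ⟨d, hdJ⟩) hd hc'] at h4) with h5 | h5
    · left
      congr 1
      exact Subtype.ext h5
    · right
      rw [← QuotientGroup.mk_mul, ← QuotientGroup.mk_mul]
      congr 1
      exact Subtype.ext h5
  · intro S hS h1 h2 y hy hyb
    obtain ⟨c, hc, hca, rfl⟩ := hy
    rw [ne_eq, h.comm_iff hc hb'T] at hyb
    have h3 := h.kf.conn a h.aT b hb hne hab
      {x | ∃ hx : x ∈ J a K, x ∈ T ∧ x ≠ a ∧ ((⟨x, hx⟩ : J a K) : L a K) ∈ S} ?_ ?_ ?_ c hc (mem_J.1 c.2).2 hyb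
    · obtain ⟨_, -, -, h4⟩ := h3
      exact h4
    · obtain ⟨y, hy⟩ := hS
      obtain ⟨⟨x, hx, hxa, rfl⟩, -⟩ := h1 y hy
      exact ⟨x, x.2, hx, hxa, hy⟩
    · rintro x ⟨hx, hxT, -, hxS⟩
      refine ⟨hxT, (mem_J.1 hx).2, ?_⟩
      have h4 := (h1 _ hxS).2
      rwa [ne_eq, h.comm_iff (c := ⟨x, hx⟩) hxT hb'T] at h4
    · rintro x ⟨hx, hxT, -, hxS⟩ x' hx'T hx'a hx'b hxx
      have hx'J : x' ∈ J a K := mem_J.2 ⟨h.kf.TK x' hx'T, hx'a⟩
      have hne' : x' ≠ a := by
        rintro rfl
        exact hx'b hab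
      refine ⟨hx'J, hx'T, hne', ?_⟩
      apply h2 _ hxS _ ⟨⟨x', hx'J⟩, hx'T, hne', rfl⟩
      · rw [ne_eq, h.comm_iff (c := ⟨x', hx'J⟩) hx'T hb'T]
        exact hx'b
      · rw [h.comm_iff (c := ⟨x, hx⟩) (d := ⟨x', hx'J⟩) hxT hx'T]
        exact hxx

end Dg

end Cfsg.Agent.OddHalf.D8.Fi22

end

-- merged: Cfsg.Agent.OddHalf.D8.Fi22.DiagTwo
section

/-!
# ODD half, D8, `K = Fi₂₂`: the swapped case, second part (helper956)

The elements `x_b` with `x_b x_bᵗ = b`; `[x_b, x_cᵗ] = 1`.
-/

set_option autoImplicit false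

namespace Cfsg.Agent.OddHalf.D8.Fi22

open Subgroup
open scoped commutatorElement

variable {G : Type*} [Group G]

/-- conjugation by an element of the normaliser -/
def cjAut {D : Subgroup G} {g : G} (hg : g ∈ normalizer (D : Set G)) : D ≃* D where
  toFun x := ⟨g * x * g⁻¹, (mem_normalizer_iff.1 hg x).1 x.2⟩
  invFun x := ⟨g⁻¹ * x * g, by
    have := (mem_normalizer_iff.1 (inv_mem hg) x).1 x.2
    rwa [inv_inv] at this⟩
  left_inv x := Subtype.ext (by show g⁻¹ * (g * x * g⁻¹) * g = x; group)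
  right_inv x := Subtype.ext (by show g * (g⁻¹ * x * g) * g⁻¹ = x; group)
  map_mul' x y := Subtype.ext (by show g * (x * y) * g⁻¹ = g * x * g⁻¹ * (g * y * g⁻¹); group)

namespace Dg

variable {t a : G} {K D : Subgroup G} {T : Set G}

theorem comm_top (h : Dg t a K D T) : commutator D = ⊤ := by
  rw [commutator_def, ← (Subgroup.map_injective D.subtype_injective).eq_iff, Subgroup.map_commutator,
    ← MonoidHom.range_eq_map, Subgroup.range_subtype, h.perf]

/-- **the U-fact**: an element normalising `D` and centralising the cover of `C_K(a, b)` acts on `D` as `1` or `b` -/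
theorem ufact (h : Dg t a K D T) {b : G} (hb : b ∈ T) (hne : a ≠ b) (hab : a * b = b * a)
    {A : Subgroup G} (hAD : A ≤ D) (hA : ∀ p ∈ K, p * a = a * p → p * b = b * p → ∃ α ∈ A, ph t α = p)
    {g : G} (hg : g ∈ normalizer (D : Set G)) (hgA : ∀ p ∈ A, g * p = p * g) {m : G} (hm : m ∈ D)
    (hmb : ph t m = b) : (∀ x ∈ D, g * x = x * g) ∨ ∀ x ∈ D, g * x * g⁻¹ = m * x * m⁻¹ := by
  have h1 := (h.rig hb hne hab).rigid_cover h.comm_top h.ψ_surj h.ψ_ker (m := ⟨m, hm⟩) (by
    rw [ψ_apply]
    congr 1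
    exact Subtype.ext hmb) (cjAut hg) (by
    rintro _ ⟨c, hc, hca, rfl⟩ hcb
    rw [h.comm_iff (d := ⟨b, h.b_J hb hab⟩) hc hb] at hcb
    obtain ⟨α, hα, hαc⟩ := hA c (mem_J.1 c.2).1 (mem_J.1 c.2).2 hcb
    refine ⟨⟨α, hAD hα⟩, ?_, ?_⟩
    · rw [ψ_apply]
      congr 1
      exact Subtype.ext hαc
    · apply Subtype.ext
      show g * α * g⁻¹ = α
      rw [hgA α hα]; group)
  rcases h1 with h1 | h1
  · left
    intro x hx
    have h2 : g * x * g⁻¹ = x := congrArg Subtype.val (h1 ⟨x, hx⟩)
    exact mul_inv_eq_iff_eq_mul.1 h2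
  · right
    intro x hx
    exact congrArg Subtype.val (h1 ⟨x, hx⟩)

theorem t_nmem (h : Dg t a K D T) {b : G} (hb : b ∈ T) (hne : a ≠ b) (hab : a * b = b * a) :
    t ∉ normalizer (D : Set G) := by
  intro htN
  have hti := h.tw.tinv
  have htD : ∀ x ∈ D, t * x * t ∈ D := by
    intro x hx
    have := (mem_normalizer_iff.1 htN x).1 hx
    rwa [hti] at this
  have hab' : ∀ x ∈ D, ∀ y ∈ D, x * y = y * x := by
    intro x hx y hy
    have := h.tw.comm x hx _ (htD y hy)
    rwa [h.tw.sg_sg] at this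
  obtain ⟨m, hm, hmb⟩ := h.surj b (h.kf.TK b hb) hab.symm
  have h1 : D = ⊥ := by
    rw [← h.perf, commutator_eq_bot_iff_le_centralizer]
    intro x hx
    rw [mem_centralizer_iff]
    intro y hy
    exact hab' y hy x hx
  rw [h1, mem_bot] at hm
  rw [hm, h.tw.ph_one] at hmb
  exact h.kf.one (hmb ▸ hb)

/-- `b` does not centralise `D` -/
theorem nc (h : Dg t a K D T) {b : G} (hb : b ∈ T) (hne : a ≠ b) (hab : a * b = b * a) :
    ¬ ∀ m ∈ D, b * m = m * b := by
  intro hc
  have hbt := h.Kt b (h.kf.TK b hb)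
  rcases h.kf.cenJ a h.aT b (h.kf.TK b hb) hab.symm (by
    intro j hj hja
    obtain ⟨m, hm, rfl⟩ := h.surj j hj hja
    have h1 := hc m hm
    have h2 : b * (t * m * t) = t * m * t * b := by
      calc b * (t * m * t) = (b * t) * m * t := by group
        _ = t * (b * m) * t := by rw [hbt]; group
        _ = t * m * (b * t) := by rw [h1]; group
        _ = t * m * t * b := by rw [hbt]; group
    unfold ph
    calc b * (m * (t * m * t)) = (b * m) * (t * m * t) := by group
      _ = m * (b * (t * m * t)) := by rw [h1]; group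
      _ = _ := by rw [h2]; group) with h1 | h1
  · exact h.kf.one (h1 ▸ hb)
  · exact hne h1.symm

theorem nct (h : Dg t a K D T) {b : G} (hb : b ∈ T) (hne : a ≠ b) (hab : a * b = b * a) :
    ¬ ∀ m ∈ D, b * (t * m * t) = t * m * t * b := by
  intro hc
  apply h.nc hb hne hab
  intro m hm
  have hbt := h.Kt b (h.kf.TK b hb)
  have h1 := hc m hm
  calc b * m = b * (t * (t * m * t) * t) := by rw [h.tw.sg_sg]
    _ = (b * t) * (t * m * t) * t := by group
    _ = t * (b * (t * m * t)) * t := by rw [hbt]; group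
    _ = t * (t * m * t) * (b * t) := by rw [h1]; group
    _ = t * (t * m * t) * t * b := by rw [hbt]; group
    _ = m * b := by rw [h.tw.sg_sg]

theorem exists_conj (h : Dg t a K D T) {b : G} (hb : b ∈ T) : ∃ k ∈ K, k * a * k⁻¹ = b := by
  obtain ⟨c, hc, hca, -, hca', -⟩ := h.kf.nbr a h.aT a h.aT
  obtain ⟨c', hc', hcb, -, hcb', -⟩ := h.kf.nbr b hb b hb
  obtain ⟨k, hk, h1, -⟩ := h.kf.trans a h.aT c hc b hb c' hc' hca.symm hcb.symm hca'.symm hcb'.symm
  exact ⟨k, hk, h1⟩

end Dg

open Classical in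
/-- the element `x_b` -/
noncomputable def xf (K : Subgroup G) (a x b : G) : G :=
  if h : ∃ k ∈ K, k * a * k⁻¹ = b then h.choose * x * h.choose⁻¹ else 1

/-- the swapped case with the element `x`, `x xᵗ = a` -/
structure Dx (t a x : G) (K D : Subgroup G) (T : Set G) : Prop extends Dg t a K D T where
  xD : x ∈ D
  xc : ∀ m ∈ D, x * m = m * x
  xa : ph t x = a

namespace Dx

variable {t a x : G} {K D : Subgroup G} {T : Set G}

theorem x_J (h : Dx t a x K D T) {j : G} (hj : j ∈ K) (hja : j * a = a * j) : x * j = j * x := by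
  obtain ⟨m, hm, rfl⟩ := h.surj j hj hja
  have h1 := h.xc m hm
  have h2 := h.tw.comm x h.xD m hm
  unfold ph
  calc x * (m * (t * m * t)) = (x * m) * (t * m * t) := by group
    _ = m * (x * (t * m * t)) := by rw [h1]; group
    _ = _ := by rw [h2]; group

theorem xf_eq (h : Dx t a x K D T) {k : G} (hk : k ∈ K) : xf K a x (k * a * k⁻¹) = k * x * k⁻¹ := by
  classical
  have hex : ∃ k' ∈ K, k' * a * k'⁻¹ = k * a * k⁻¹ := ⟨k, hk, rfl⟩
  unfold xf
  rw [dif_pos hex]
  obtain ⟨h1, h2⟩ := hex.choose_spec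
  set k' := hex.choose with hk'
  have hj : (k⁻¹ * k') * a = a * (k⁻¹ * k') := by
    calc (k⁻¹ * k') * a = k⁻¹ * (k' * a * k'⁻¹) * k' := by group
      _ = k⁻¹ * (k * a * k⁻¹) * k' := by rw [h2]
      _ = a * (k⁻¹ * k') := by group
  have h3 := h.x_J (mul_mem (inv_mem hk) h1) hj
  calc k' * x * k'⁻¹ = k * ((k⁻¹ * k') * x) * k'⁻¹ := by group
    _ = k * (x * (k⁻¹ * k')) * k'⁻¹ := by rw [h3]
    _ = k * x * k⁻¹ := by group

theorem xf_conj (h : Dx t a x K D T) {b k : G} (hb : b ∈ T) (hk : k ∈ K) :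
    xf K a x (k * b * k⁻¹) = k * xf K a x b * k⁻¹ := by
  obtain ⟨l, hl, rfl⟩ := h.exists_conj hb
  have e : k * (l * a * l⁻¹) * k⁻¹ = (k * l) * a * (k * l)⁻¹ := by group
  rw [e, h.xf_eq (mul_mem hk hl), h.xf_eq hl]
  group

theorem xf_ph (h : Dx t a x K D T) {b : G} (hb : b ∈ T) : xf K a x b * (t * xf K a x b * t) = b := by
  obtain ⟨k, hk, rfl⟩ := h.exists_conj hb
  rw [h.xf_eq hk]
  have hkt := h.Kt k hk
  have hkt' : k⁻¹ * t = t * k⁻¹ := (show Commute k t from hkt).inv_left
  calc k * x * k⁻¹ * (t * (k * x * k⁻¹) * t) = k * x * k⁻¹ * ((t * k) * x * (k⁻¹ * t)) := by group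
    _ = k * x * k⁻¹ * ((k * t) * x * (t * k⁻¹)) := by rw [hkt, hkt']
    _ = k * (x * (t * x * t)) * k⁻¹ := by group
    _ = k * a * k⁻¹ := by
        have := h.xa
        unfold ph at this
        rw [this]

theorem xf_comm (h : Dx t a x K D T) {b j : G} (hb : b ∈ T) (hj : j ∈ K) (hjb : j * b = b * j) :
    xf K a x b * j = j * xf K a x b := by
  have h1 := h.xf_conj hb hj
  rw [hjb, mul_inv_cancel_right] at h1
  exact (mul_inv_eq_iff_eq_mul.1 h1.symm).symm

theorem xf_tcomm (h : Dx t a x K D T) {b : G} (hb : b ∈ T) :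
    xf K a x b * (t * xf K a x b * t) = t * xf K a x b * t * xf K a x b := by
  obtain ⟨k, hk, rfl⟩ := h.exists_conj hb
  rw [h.xf_eq hk]
  have hkt := h.Kt k hk
  have hkt' : k⁻¹ * t = t * k⁻¹ := (show Commute k t from hkt).inv_left
  have e : t * (k * x * k⁻¹) * t = k * (t * x * t) * k⁻¹ := by
    calc t * (k * x * k⁻¹) * t = (t * k) * x * (k⁻¹ * t) := by group
      _ = (k * t) * x * (t * k⁻¹) := by rw [hkt, hkt']
      _ = _ := by group
  rw [e]
  have h1 := h.tw.comm x h.xD x h.xD
  calc k * x * k⁻¹ * (k * (t * x * t) * k⁻¹) = k * (x * (t * x * t)) * k⁻¹ := by group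
    _ = k * (t * x * t * x) * k⁻¹ := by rw [h1]
    _ = _ := by group

/-- an element normalising `D` and `Dᵗ` and commuting with the image of `p` commutes with `p` modulo `D ∩ Dᵗ` -/
theorem comm_cov (h : Dx t a x K D T) {A : Subgroup G} (hAD : A ≤ D) (hA : ⁅A, A⁆ = A) {g : G}
    (hg : g ∈ normalizer (D : Set G)) (hg' : t * g * t ∈ normalizer (D : Set G))
    (hgp : ∀ p ∈ A, g * ph t p = ph t p * g) : ∀ p ∈ A, g * p = p * g := by
  apply WreathLam.comm_of_perfect hA {w | w ∈ D ∧ t * w * t ∈ D}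
  · intro p hp
    have hpD := hAD hp
    have h1 : g * p * g⁻¹ ∈ D := (mem_normalizer_iff.1 hg p).1 hpD
    refine ⟨mul_mem h1 (inv_mem hpD), ?_⟩
    have h2 : (t * g * t) * p * (t * g * t)⁻¹ ∈ D := (mem_normalizer_iff.1 hg' p).1 hpD
    have h3 := hgp p hp
    have hti := h.tw.tinv
    -- `g p g⁻¹ (g p^t g⁻¹) = p p^t`
    have h4 : g * p * g⁻¹ * (g * (t * p * t) * g⁻¹) = p * (t * p * t) := by
      unfold ph at h3
      calc g * p * g⁻¹ * (g * (t * p * t) * g⁻¹) = (g * (p * (t * p * t))) * g⁻¹ := by group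
        _ = p * (t * p * t) * g * g⁻¹ := by rw [h3]
        _ = _ := by group
    have e1 : g * (t * p * t) * g⁻¹ = t * ((t * g * t) * p * (t * g * t)⁻¹) * t := by
      rw [mul_inv_rev, mul_inv_rev, hti]
      calc g * (t * p * t) * g⁻¹ = (t * t) * g * t * p * t * g⁻¹ * (t * t) := by rw [h.tw.tt]; group
        _ = _ := by group
    set q := (t * g * t) * p * (t * g * t)⁻¹ with hq
    rw [e1] at h4
    -- `g p g⁻¹ p⁻¹ = p^t (q^t)⁻¹`
    have h5 : g * p * g⁻¹ = p * (t * p * t) * (t * q * t)⁻¹ := eq_mul_inv_of_mul_eq h4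
    have h6 := h.tw.comm p hpD (p * q⁻¹) (mul_mem hpD (inv_mem h2))
    have h7 : (t * p * t) * (t * q * t)⁻¹ = t * (p * q⁻¹) * t := by
      rw [h.tw.sg_mul p q⁻¹, h.tw.sg_inv q]
    have h8 : g * p * g⁻¹ * p⁻¹ = t * (p * q⁻¹) * t := by
      rw [h5, mul_assoc p, h7, h6, mul_inv_cancel_right]
    rw [h8, h.tw.sg_sg]
    exact mul_mem hpD (inv_mem h2)
  · rintro w ⟨-, hw⟩ q hq
    have := h.tw.comm q (hAD hq) _ hw
    rw [h.tw.sg_sg] at this
    exact this.symm
  · rintro w ⟨-, hw⟩ v ⟨hv, -⟩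
    have := h.tw.comm v hv _ hw
    rw [h.tw.sg_sg] at this
    exact this.symm

/-- `x_b` permutes `D`, `Dᵗ` -/
theorem perm (h : Dx t a x K D T) {b : G} (hb : b ∈ T) (hne : a ≠ b) (hab : a * b = b * a) {g : G}
    (hga : g * a = a * g) (hgb : g * b = b * g) :
    (g ∈ normalizer (D : Set G) ∧ t * g * t ∈ normalizer (D : Set G)) ∨
      (t * g ∈ normalizer (D : Set G) ∧ g * t ∈ normalizer (D : Set G)) := by
  have hti := h.tw.tinv
  have hta := h.ta
  obtain ⟨m, hm, hmb⟩ := h.surj b (h.kf.TK b hb) hab.symm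
  have hgta : (g * t) * a = a * (g * t) := by
    calc (g * t) * a = g * (t * a) := by group
      _ = (g * a) * t := by rw [hta]; group
      _ = a * (g * t) := by rw [hga]; group
  -- `b = u v`
  set u := g * m * g⁻¹ with hu
  set v := (g * t) * m * (g * t)⁻¹ with hv
  have huv : b = u * v := by
    have h1 : g * b * g⁻¹ = b := by rw [hgb]; group
    rw [hu, hv, mul_inv_rev, hti]
    calc b = g * b * g⁻¹ := h1.symm
      _ = g * (m * (t * m * t)) * g⁻¹ := by
          rw [← hmb]; rfl
      _ = _ := by group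
  have hcc : ∀ n : G, u * n = n * u → v * n = n * v → b * n = n * b := by
    intro n h1 h2
    rw [huv]
    calc u * v * n = u * (v * n) := by group
      _ = (u * n) * v := by rw [h2]; group
      _ = n * (u * v) := by rw [h1]; group
  have hin : ∀ w ∈ D, ∀ n ∈ D, w * (t * n * t) = t * n * t * w := h.tw.comm
  have hin' : ∀ w : G, t * w * t ∈ D → ∀ n ∈ D, w * n = n * w := by
    intro w hw n hn
    have := h.tw.comm n hn _ hw
    rw [h.tw.sg_sg] at this
    exact this.symm
  -- membership facts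
  have hA : ∀ c : G, c ∈ normalizer (D : Set G) → c * m * c⁻¹ ∈ D := fun c hc =>
    (mem_normalizer_iff.1 hc m).1 hm
  have hB : ∀ c : G, t * c ∈ normalizer (D : Set G) → t * (c * m * c⁻¹) * t ∈ D := by
    intro c hc
    have h1 := (mem_normalizer_iff.1 hc m).1 hm
    rw [mul_inv_rev, hti] at h1
    have e : t * (c * m * c⁻¹) * t = t * c * m * (c⁻¹ * t) := by group
    rw [e]; exact h1
  rcases h.comps g hga with h1 | h1 | h1
  · rcases h.comps (g * t) hgta with h2 | h2 | h2
    · exfalso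
      apply h.t_nmem hb hne hab
      have := mul_mem (inv_mem h1) h2
      rwa [inv_mul_cancel_left] at this
    · left
      refine ⟨h1, ?_⟩
      rwa [← mul_assoc] at h2
    · exfalso
      apply h.nct hb hne hab
      intro n hn
      exact hcc _ (hin u (hA g h1) n hn) (h2 m hm n hn).2
  · rcases h.comps (g * t) hgta with h2 | h2 | h2
    · right
      exact ⟨h1, h2⟩
    · exfalso
      apply h.t_nmem hb hne hab
      have := mul_mem (inv_mem h1) h2
      have e : (t * g)⁻¹ * (t * (g * t)) = t := by group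
      rwa [e] at this
    · exfalso
      apply h.nc hb hne hab
      intro n hn
      exact hcc _ (hin' u (hB g h1) n hn) (h2 m hm n hn).1
  · rcases h.comps (g * t) hgta with h2 | h2 | h2
    · exfalso
      apply h.nct hb hne hab
      intro n hn
      exact hcc _ (h1 m hm n hn).2 (hin v (hA (g * t) h2) n hn)
    · exfalso
      apply h.nc hb hne hab
      intro n hn
      exact hcc _ (h1 m hm n hn).1 (hin' v (hB (g * t) h2) n hn)
    · exfalso
      apply h.nc hb hne hab
      intro n hn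
      exact hcc _ (h1 m hm n hn).1 (h2 m hm n hn).1

/-- the structure of `x_b` in `C(a)` -/
theorem pair [Finite G] (h : Dx t a x K D T) {b : G} (hb : b ∈ T) (hne : a ≠ b)
    (hab : a * b = b * a) : ∃ β : G, (∀ m ∈ D, β * m = m * β) ∧
    (∀ m ∈ D, β * (t * m * t) = t * m * t * β) ∧ β * (t * β * t) = 1 ∧
    ∃ m ∈ D, xf K a x b = m * β ∨ xf K a x b = t * m * t * β := by
  have hti := h.tw.tinv
  have hta := h.ta
  set g := xf K a x b with hg
  have hga : g * a = a * g := h.xf_comm hb h.aK hab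
  have hgb : g * b = b * g := h.xf_comm hb (h.kf.TK b hb) rfl
  have hgg : g * (t * g * t) = b := h.xf_ph hb
  have hgc : g * (t * g * t) = t * g * t * g := h.xf_tcomm hb
  obtain ⟨m, hm, hmb⟩ := h.surj b (h.kf.TK b hb) hab.symm
  have hbact : ∀ y ∈ D, b * y * b⁻¹ = m * y * m⁻¹ := by
    intro y hy
    have := h.tw.conj_eq hy hm
    rwa [hmb] at this
  -- the perfect cover of `C_K(a, b)`
  obtain ⟨A, hAD, hAp, hAP, hPA⟩ := h.tw.exists_cov (h.kf.perfP a h.aT b hb hne hab) (by
    rintro p ⟨⟨hp1, hp2⟩, -⟩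
    exact h.surj p hp1 (mem_centralizer_singleton_iff.1 hp2))
  have hPA' : ∀ p ∈ K, p * a = a * p → p * b = b * p → ∃ α ∈ A, ph t α = p := by
    intro p h1 h2 h3
    exact hPA p ⟨⟨h1, mem_centralizer_singleton_iff.2 h2⟩, mem_centralizer_singleton_iff.2 h3⟩
  have hgp : ∀ p ∈ A, g * ph t p = ph t p * g := by
    intro p hp
    obtain ⟨⟨h1, -⟩, h2⟩ := hAP p hp
    exact h.xf_comm hb h1 (mem_centralizer_singleton_iff.1 h2)
  -- if `m` is central modulo, contradiction
  have hmc : (∀ y ∈ D, m * (m * y * m⁻¹) * m⁻¹ = m * y * m⁻¹) → False := by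
    intro h1
    apply h.nc hb hne hab
    intro y hy
    have h2 : m * y * m⁻¹ = y := by
      have h3 := h1 y hy
      have h4 := mul_left_cancel (mul_right_cancel h3)
      exact h4
    have h5 := hbact y hy
    rw [h2] at h5
    exact mul_inv_eq_iff_eq_mul.1 h5
  rcases h.perm hb hne hab hga hgb with ⟨h1, h2⟩ | ⟨h1, h2⟩
  · have hgA := h.comm_cov hAD hAp h1 h2 hgp
    have hgA' : ∀ p ∈ A, t * g * t * p = p * (t * g * t) := by
      intro p hp
      have h3 := hgp p hp
      have h4 := hgA p hp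
      unfold ph at h3
      have h5 : g * (t * p * t) = t * p * t * g := by
        have : p * (g * (t * p * t)) = p * (t * p * t * g) := by
          calc p * (g * (t * p * t)) = (p * g) * (t * p * t) := by group
            _ = (g * p) * (t * p * t) := by rw [h4]
            _ = g * (p * (t * p * t)) := by group
            _ = p * (t * p * t) * g := h3
            _ = _ := by group
        exact mul_left_cancel this
      calc t * g * t * p = t * (g * (t * p * t)) * t := by
            rw [show t * (g * (t * p * t)) * t = t * g * t * p * (t * t) by group, h.tw.tt, mul_one]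
        _ = t * (t * p * t * g) * t := by rw [h5]
        _ = (t * t) * p * (t * g * t) := by group
        _ = p * (t * g * t) := by rw [h.tw.tt, one_mul]
    rcases h.ufact hb hne hab hAD hPA' h1 hgA hm hmb with h3 | h3
    · rcases h.ufact hb hne hab hAD hPA' h2 hgA' hm hmb with h4 | h4
      · exfalso
        apply h.nc hb hne hab
        intro y hy
        rw [← hgg]
        calc g * (t * g * t) * y = g * (t * g * t * y) := by group
          _ = (g * y) * (t * g * t) := by rw [h4 y hy]; group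
          _ = y * (g * (t * g * t)) := by rw [h3 y hy]; group
      · -- `g` centralises `D`, `g^t` acts as `m`
        refine ⟨(t * m * t)⁻¹ * g, ?_, ?_, ?_, m, hm, Or.inr (by group)⟩
        · intro y hy
          have h5 : (t * m * t)⁻¹ * y = y * (t * m * t)⁻¹ :=
            ((show Commute y (t * m * t) from h.tw.comm y hy m hm).inv_right).eq.symm
          calc (t * m * t)⁻¹ * g * y = (t * m * t)⁻¹ * (g * y) := by group
            _ = ((t * m * t)⁻¹ * y) * g := by rw [h3 y hy]; group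
            _ = y * ((t * m * t)⁻¹ * g) := by rw [h5]; group
        · intro y hy
          have h5 := h4 y hy
          have h6 : g * (t * y * t) * g⁻¹ = t * (m * y * m⁻¹) * t := by
            rw [← h5, mul_inv_rev, mul_inv_rev, hti]
            calc g * (t * y * t) * g⁻¹ = (t * t) * g * t * y * t * g⁻¹ * (t * t) := by
                  rw [h.tw.tt]; group
              _ = _ := by group
          have h7 : t * (m * y * m⁻¹) * t = (t * m * t) * (t * y * t) * (t * m * t)⁻¹ := by
            rw [h.tw.sg_mul, h.tw.sg_mul, h.tw.sg_inv]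
          rw [h7] at h6
          have h8 : g * (t * y * t) = (t * m * t) * (t * y * t) * (t * m * t)⁻¹ * g :=
            mul_inv_eq_iff_eq_mul.1 h6
          calc (t * m * t)⁻¹ * g * (t * y * t) = (t * m * t)⁻¹ * (g * (t * y * t)) := by group
            _ = (t * m * t)⁻¹ * ((t * m * t) * (t * y * t) * (t * m * t)⁻¹ * g) := by rw [h8]
            _ = _ := by group
        · have h5 : t * ((t * m * t)⁻¹ * g) * t = m⁻¹ * (t * g * t) := by
            rw [h.tw.sg_mul, h.tw.sg_inv, h.tw.sg_sg]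
          rw [h5]
          have h6 : m * g = g * m := (h3 m hm).symm
          have h6' : g * m⁻¹ = m⁻¹ * g := ((show Commute m g from h6).inv_left).eq.symm
          have h7 : (t * m * t)⁻¹ * m⁻¹ = b⁻¹ := by
            rw [← mul_inv_rev, ← hmb]; rfl
          calc (t * m * t)⁻¹ * g * (m⁻¹ * (t * g * t)) = (t * m * t)⁻¹ * (g * m⁻¹) * (t * g * t) := by
                group
            _ = (t * m * t)⁻¹ * m⁻¹ * (g * (t * g * t)) := by rw [h6']; group
            _ = 1 := by rw [h7, hgg, inv_mul_cancel]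
    · rcases h.ufact hb hne hab hAD hPA' h2 hgA' hm hmb with h4 | h4
      · -- `g` acts as `m` on `D`, `g^t` centralises `D`
        refine ⟨m⁻¹ * g, ?_, ?_, ?_, m, hm, Or.inl (by group)⟩
        · intro y hy
          have h5 : g * y = m * y * m⁻¹ * g := mul_inv_eq_iff_eq_mul.1 (h3 y hy)
          calc m⁻¹ * g * y = m⁻¹ * (g * y) := by group
            _ = m⁻¹ * (m * y * m⁻¹ * g) := by rw [h5]
            _ = _ := by group
        · intro y hy
          have h5 := h4 y hy
          have h6 : g * (t * y * t) = t * y * t * g := by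
            calc g * (t * y * t) = (t * t) * g * t * y * t := by rw [h.tw.tt]; group
              _ = t * (t * g * t * y) * t := by group
              _ = t * (y * (t * g * t)) * t := by rw [h5]
              _ = t * y * t * g * (t * t) := by group
              _ = t * y * t * g := by rw [h.tw.tt, mul_one]
          have h7 : m⁻¹ * (t * y * t) = t * y * t * m⁻¹ :=
            ((show Commute m (t * y * t) from h.tw.comm m hm y hy).inv_left).eq
          calc m⁻¹ * g * (t * y * t) = m⁻¹ * (g * (t * y * t)) := by group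
            _ = (m⁻¹ * (t * y * t)) * g := by rw [h6]; group
            _ = t * y * t * (m⁻¹ * g) := by rw [h7]; group
        · have h5 : t * (m⁻¹ * g) * t = (t * m * t)⁻¹ * (t * g * t) := by
            rw [h.tw.sg_mul, h.tw.sg_inv]
          rw [h5]
          -- `g` commutes with `t m t`
          have h6 : t * m * t * g = g * (t * m * t) := by
            have h7 := h4 m hm
            calc t * m * t * g = t * (m * (t * g * t)) * t := by
                  rw [show t * (m * (t * g * t)) * t = t * m * t * g * (t * t) by group, h.tw.tt,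
                    mul_one]
              _ = t * (t * g * t * m) * t := by rw [h7]
              _ = (t * t) * g * (t * m * t) := by group
              _ = g * (t * m * t) := by rw [h.tw.tt, one_mul]
          have h6' : g * (t * m * t)⁻¹ = (t * m * t)⁻¹ * g :=
            ((show Commute (t * m * t) g from h6).inv_left).eq.symm
          have h7 : m⁻¹ * (t * m * t)⁻¹ = b⁻¹ := by
            rw [← mul_inv_rev, ← hmb]
            unfold ph
            rw [h.tw.comm m hm m hm]
          calc m⁻¹ * g * ((t * m * t)⁻¹ * (t * g * t)) = m⁻¹ * (g * (t * m * t)⁻¹) * (t * g * t) := by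
                group
            _ = m⁻¹ * (t * m * t)⁻¹ * (g * (t * g * t)) := by rw [h6']; group
            _ = 1 := by rw [h7, hgg, inv_mul_cancel]
      · exfalso
        apply hmc
        intro y hy
        have hy' : m * y * m⁻¹ ∈ D := mul_mem (mul_mem hm hy) (inv_mem hm)
        calc m * (m * y * m⁻¹) * m⁻¹ = g * (m * y * m⁻¹) * g⁻¹ := (h3 _ hy').symm
          _ = g * (t * g * t * y * (t * g * t)⁻¹) * g⁻¹ := by rw [h4 y hy]
          _ = (g * (t * g * t)) * y * (g * (t * g * t))⁻¹ := by group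
          _ = m * y * m⁻¹ := by rw [hgg, hbact y hy]
  · -- `t g` normalises `D`
    exfalso
    have hk2 : t * (t * g) * t ∈ normalizer (D : Set G) := by
      have e : t * (t * g) * t = g * t := by
        rw [show t * (t * g) * t = (t * t) * (g * t) by group, h.tw.tt, one_mul]
      rw [e]; exact h2
    have hkp : ∀ p ∈ A, t * g * ph t p = ph t p * (t * g) := by
      intro p hp
      have h3 := h.tw.ph_t (hAD hp)
      calc t * g * ph t p = t * (g * ph t p) := by group
        _ = (t * ph t p) * g := by rw [hgp p hp]; group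
        _ = ph t p * (t * g) := by rw [← h3]; group
    have hkA := h.comm_cov hAD hAp h1 hk2 hkp
    have hkk : (t * g) * (t * g) = b := by
      rw [← hgg, hgc]; group
    rcases h.ufact hb hne hab hAD hPA' h1 hkA hm hmb with h3 | h3
    · apply h.nc hb hne hab
      intro y hy
      rw [← hkk]
      calc t * g * (t * g) * y = t * g * (t * g * y) := by group
        _ = t * g * (y * (t * g)) := by rw [h3 y hy]
        _ = (t * g * y) * (t * g) := by group
        _ = (y * (t * g)) * (t * g) := by rw [h3 y hy]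
        _ = y * (t * g * (t * g)) := by group
    · apply hmc
      intro y hy
      have hy' : m * y * m⁻¹ ∈ D := mul_mem (mul_mem hm hy) (inv_mem hm)
      calc m * (m * y * m⁻¹) * m⁻¹ = t * g * (m * y * m⁻¹) * (t * g)⁻¹ := (h3 _ hy').symm
        _ = t * g * (t * g * y * (t * g)⁻¹) * (t * g)⁻¹ := by rw [h3 y hy]
        _ = (t * g * (t * g)) * y * (t * g * (t * g))⁻¹ := by group
        _ = m * y * m⁻¹ := by rw [hkk, hbact y hy]

end Dx

end Cfsg.Agent.OddHalf.D8.Fi22

end

-- merged: Cfsg.Agent.OddHalf.D8.Fi22.DiagThree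
section

/-!
# ODD half, D8, `K = Fi₂₂`: the swapped case, third part (helper956)

**`Dg.exists_wr`**: in the swapped case there is `E` with `Wr t K E` and `C_G(t)` permutes `E`, `Eᵗ`.
-/

set_option autoImplicit false

namespace Cfsg.Agent.OddHalf.D8.Fi22

open Subgroup
open scoped commutatorElement

variable {G : Type*} [Group G]

/-- `g E g⁻¹ ≤ E` for a finite group -/
theorem mem_normalizer_of [Finite G] {E : Subgroup G} {g : G} (h : ∀ x ∈ E, g * x * g⁻¹ ∈ E) :
    g ∈ normalizer (E : Set G) :=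
  Subgroup.mem_normalizer_fintype (S := (E : Set G)) fun n hn => h n hn

theorem mem_normalizer_closure [Finite G] {S : Set G} {g : G} (h : ∀ x ∈ S, g * x * g⁻¹ ∈ closure S) :
    g ∈ normalizer (closure S : Set G) := by
  apply mem_normalizer_of
  intro x hx
  induction hx using closure_induction with
  | mem x hx => exact h x hx
  | one => rw [mul_one, mul_inv_cancel]; exact one_mem _
  | mul x y _ _ h1 h2 =>
    have e : g * (x * y) * g⁻¹ = g * x * g⁻¹ * (g * y * g⁻¹) := by group
    rw [e]; exact mul_mem h1 h2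
  | inv x _ h1 =>
    have e : g * x⁻¹ * g⁻¹ = (g * x * g⁻¹)⁻¹ := by group
    rw [e]; exact inv_mem h1

namespace Dg

variable {t a : G} {K D : Subgroup G} {T : Set G}

theorem ph_pow (h : Dg t a K D T) {x : G} (hx : x ∈ D) (n : ℕ) : ph t (x ^ n) = ph t x ^ n := by
  induction n with
  | zero => rw [pow_zero, pow_zero, h.tw.ph_one]
  | succ n ih => rw [pow_succ, pow_succ, h.tw.ph_mul (pow_mem hx n) hx, ih]

/-- the element `x` -/
theorem exists_x [Finite G] (h : Dg t a K D T) : ∃ x : G, Dx t a x K D T ∧ ∃ k, orderOf x = 2 ^ k := by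
  obtain ⟨x0, hx0, hx0a⟩ := h.surj a h.aK rfl
  have hc0 : ∀ m ∈ D, x0 * m = m * x0 := by
    apply h.tw.central_of h.perf hx0
    intro m hm
    rw [hx0a]
    exact (h.ph_a hm).symm
  obtain ⟨k, m, hm, hk⟩ := Nat.exists_eq_two_pow_mul_odd (orderOf_pos x0).ne'
  refine ⟨x0 ^ m, ⟨h, pow_mem hx0 m, ?_, ?_⟩, k, ?_⟩
  · intro y hy
    exact ((show Commute x0 y from hc0 y hy).pow_left m).eq
  · rw [h.ph_pow hx0, hx0a]
    obtain ⟨j, rfl⟩ := hm
    rw [pow_succ, pow_mul, pow_two, h.aa, one_pow, one_mul]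
  · rw [orderOf_pow, hk, Nat.gcd_mul_left_left, Nat.mul_div_cancel _ hm.pos]

end Dg

namespace Dx

variable {t a x : G} {K D : Subgroup G} {T : Set G}

theorem comm_near [Finite G] (h : Dx t a x K D T) {b c : G} (hb : b ∈ T) (hc : c ∈ T) (hne : a ≠ b)
    (hne' : a ≠ c) (hab : a * b = b * a) (hac : a * c = c * a) :
    xf K a x b * (t * xf K a x c * t) = t * xf K a x c * t * xf K a x b := by
  obtain ⟨β, h1, h2, h3, m, hm, h4⟩ := h.pair hb hne hab
  obtain ⟨k, hk, hka, hkc⟩ := h.kf.trans a h.aT b hb a h.aT c hc hne hne' hab hac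
  have hka' : k * a = a * k := mul_inv_eq_iff_eq_mul.1 hka
  obtain ⟨n, hn, hnk⟩ := h.surj k hk hka'
  have hkt := h.Kt k hk
  -- `β` commutes with `k`
  have hβk : β * k = k * β := by
    rw [← hnk]
    unfold ph
    calc β * (n * (t * n * t)) = (β * n) * (t * n * t) := by group
      _ = n * (β * (t * n * t)) := by rw [h1 n hn]; group
      _ = _ := by rw [h2 n hn]; group
  have hkβ : k * β * k⁻¹ = β := by rw [← hβk]; group
  set m' := k * m * k⁻¹ with hm'
  have hm'D : m' ∈ D := by
    have := h.tw.conj_eq hm hn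
    rw [hnk] at this
    rw [hm', this]
    exact mul_mem (mul_mem hn hm) (inv_mem hn)
  have hxc : xf K a x c = k * xf K a x b * k⁻¹ := by rw [← h.xf_conj hb hk, hkc]
  have hkm : k * (t * m * t) * k⁻¹ = t * m' * t := by
    have hkt' : k⁻¹ * t = t * k⁻¹ := (show Commute k t from hkt).inv_left
    calc k * (t * m * t) * k⁻¹ = (k * t) * m * (t * k⁻¹) := by group
      _ = (t * k) * m * (k⁻¹ * t) := by rw [hkt, hkt']
      _ = _ := by rw [hm']; group
  have hβ' : t * β * t = β⁻¹ := eq_inv_of_mul_eq_one_right h3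
  have hcm := h.tw.comm m hm m' hm'D
  rcases h4 with h4 | h4
  · have e1 : xf K a x c = m' * β := by
      rw [hxc, h4]
      calc k * (m * β) * k⁻¹ = k * m * k⁻¹ * (k * β * k⁻¹) := by group
        _ = _ := by rw [hkβ]
    have e2 : t * xf K a x c * t = t * m' * t * β⁻¹ := by
      rw [e1, h.tw.sg_mul, hβ']
    have h5 := h2 m' hm'D
    have h5' : β⁻¹ * m = m * β⁻¹ := ((show Commute β m from h1 m hm).inv_left).eq
    rw [e2, h4]
    calc m * β * (t * m' * t * β⁻¹) = m * (β * (t * m' * t)) * β⁻¹ := by group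
      _ = m * (t * m' * t) := by rw [h5]; group
      _ = t * m' * t * m := hcm
      _ = t * m' * t * (m * β⁻¹) * β := by group
      _ = t * m' * t * β⁻¹ * (m * β) := by rw [← h5']; group
  · have e1 : xf K a x c = t * m' * t * β := by
      rw [hxc, h4]
      calc k * (t * m * t * β) * k⁻¹ = k * (t * m * t) * k⁻¹ * (k * β * k⁻¹) := by group
        _ = _ := by rw [hkβ, hkm]
    have e2 : t * xf K a x c * t = m' * β⁻¹ := by
      rw [e1, h.tw.sg_mul, h.tw.sg_sg, hβ']
    have h5 := h1 m' hm'D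
    have h5' : β⁻¹ * (t * m * t) = t * m * t * β⁻¹ :=
      ((show Commute β (t * m * t) from h2 m hm).inv_left).eq
    have hcm' := h.tw.comm m' hm'D m hm
    rw [e2, h4]
    calc t * m * t * β * (m' * β⁻¹) = t * m * t * (β * m') * β⁻¹ := by group
      _ = t * m * t * m' := by rw [h5]; group
      _ = m' * (t * m * t) := hcm'.symm
      _ = m' * (t * m * t * β⁻¹) * β := by group
      _ = m' * β⁻¹ * (t * m * t * β) := by rw [← h5']; group

theorem comm_all [Finite G] (h : Dx t a x K D T) {b c : G} (hb : b ∈ T) (hc : c ∈ T) :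
    xf K a x b * (t * xf K a x c * t) = t * xf K a x c * t * xf K a x b := by
  obtain ⟨d, hd, hdb, hdc, hdb', hdc'⟩ := h.kf.nbr b hb c hc
  obtain ⟨k, hk, hkd⟩ := h.exists_conj hd
  have hkt := h.Kt k hk
  have hkt' : k⁻¹ * t = t * k⁻¹ := (show Commute k t from hkt).inv_left
  have hkm : ∀ e ∈ T, k⁻¹ * e * k ∈ T := by
    intro e he
    have := h.kf.conj k⁻¹ (inv_mem hk) e he
    rwa [inv_inv] at this
  have hne : ∀ e, d ≠ e → a ≠ k⁻¹ * e * k := by
    intro e h1 h2
    apply h1
    rw [← hkd, h2]; group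
  have hco : ∀ e, d * e = e * d → a * (k⁻¹ * e * k) = k⁻¹ * e * k * a := by
    intro e h1
    rw [← hkd] at h1
    calc a * (k⁻¹ * e * k) = k⁻¹ * ((k * a * k⁻¹) * e) * k := by group
      _ = k⁻¹ * (e * (k * a * k⁻¹)) * k := by rw [h1]
      _ = _ := by group
  have h1 := h.comm_near (hkm b hb) (hkm c hc) (hne b hdb) (hne c hdc) (hco b hdb') (hco c hdc')
  have e : ∀ e ∈ T, xf K a x e = k * xf K a x (k⁻¹ * e * k) * k⁻¹ := by
    intro e he
    rw [← h.xf_conj (hkm e he) hk]
    congr 1
    group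
  set u := xf K a x (k⁻¹ * b * k) with hu
  set v := xf K a x (k⁻¹ * c * k) with hv
  have e3 : t * (k * v * k⁻¹) * t = k * (t * v * t) * k⁻¹ := by
    calc t * (k * v * k⁻¹) * t = (t * k) * v * (k⁻¹ * t) := by group
      _ = (k * t) * v * (t * k⁻¹) := by rw [hkt, hkt']
      _ = _ := by group
  have eb : xf K a x b = k * u * k⁻¹ := e b hb
  have ec : xf K a x c = k * v * k⁻¹ := e c hc
  clear_value u v
  rw [eb, ec, e3]
  calc k * u * k⁻¹ * (k * (t * v * t) * k⁻¹) = k * (u * (t * v * t)) * k⁻¹ := by group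
    _ = k * (t * v * t * u) * k⁻¹ := by rw [h1]
    _ = _ := by group

/-- the structure of the wreath lemma -/
theorem wr [Finite G] (h : Dx t a x K D T)
    (cen : ∀ g : G, g * t = t * g → (∀ k ∈ K, g * k = k * g) → g = 1 ∨ g = t) :
    Wreath.Wr t K (closure (xf K a x '' T)) := by
  apply Wreath.wr_of h.tw.tt h.kf.gen (fun b hb => h.xf_ph hb) (fun b hb c hc => h.comm_all hb hc) cen
  obtain ⟨b, hb, hba, -, hbc, -⟩ := h.kf.nbr a h.aT a h.aT
  by_contra hcon
  push Not at hcon
  rcases h.kf.cenJ a h.aT b (h.kf.TK b hb) hbc (fun j hj _ => hcon b (h.kf.TK b hb) j hj) with h1 | h1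
  · exact h.kf.one (h1 ▸ hb)
  · exact hba h1

theorem xf_a (h : Dx t a x K D T) : xf K a x a = x := by
  have := h.xf_eq (one_mem K)
  rwa [one_mul, one_mul, inv_one, mul_one, mul_one] at this

theorem x_mem (h : Dx t a x K D T) : x ∈ closure (xf K a x '' T) :=
  subset_closure ⟨a, h.aT, h.xf_a⟩

theorem K_nor [Finite G] (h : Dx t a x K D T) {k : G} (hk : k ∈ K) :
    k ∈ normalizer (closure (xf K a x '' T) : Set G) := by
  apply mem_normalizer_closure
  rintro _ ⟨b, hb, rfl⟩
  exact subset_closure ⟨k * b * k⁻¹, h.kf.conj k hk b hb, h.xf_conj hb hk⟩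

/-- an element centralising `D` and `Dᵗ` and commuting with `t` is `1` or `a` -/
theorem one_or_a [Finite G] (h : Dx t a x K D T)
    (cJ : ∀ g : G, g * t = t * g → (∀ j ∈ K, j * a = a * j → g * j = j * g) →
      g = 1 ∨ g = t ∨ g = a ∨ g = t * a) {u : G} (hut : u * t = t * u) (huD : ∀ m ∈ D, u * m = m * u) :
    u = 1 ∨ u = a := by
  obtain ⟨b, hb, hba, -, hbc, -⟩ := h.kf.nbr a h.aT a h.aT
  have hN : ∀ w : G, (∀ m ∈ D, w * m = m * w) → w ∈ normalizer (D : Set G) := by
    intro w hw
    rw [mem_normalizer_iff]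
    intro y
    constructor
    · intro hy
      have : w * y * w⁻¹ = y := by rw [hw y hy]; group
      rw [this]; exact hy
    · intro hy
      have h1 := hw _ hy
      have : y = w * y * w⁻¹ := by
        have h2 : w * y = w * (w * y * w⁻¹) := by rw [h1]; group
        exact mul_left_cancel h2
      rw [this]; exact hy
  rcases cJ u hut (by
    intro j hj hja
    obtain ⟨m, hm, rfl⟩ := h.surj j hj hja
    have h1 := huD m hm
    have h2 : u * (t * m * t) = t * m * t * u := by
      calc u * (t * m * t) = (u * t) * m * t := by group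
        _ = t * (u * m) * t := by rw [hut]; group
        _ = t * m * (u * t) := by rw [h1]; group
        _ = _ := by rw [hut]; group
    unfold ph
    calc u * (m * (t * m * t)) = (u * m) * (t * m * t) := by group
      _ = m * (u * (t * m * t)) := by rw [h1]; group
      _ = _ := by rw [h2]; group) with h1 | h1 | h1 | h1
  · exact Or.inl h1
  · exact absurd (h1 ▸ hN u huD) (h.t_nmem hb hba.symm hbc.symm)
  · exact Or.inr h1
  · exfalso
    apply h.t_nmem hb hba.symm hbc.symm
    have h2 := mul_mem (hN u huD) (hN a (fun m hm => (h.Da m hm).symm))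
    rwa [h1, mul_assoc, h.aa, mul_one] at h2

/-- `x² = 1` -/
theorem xx [Finite G] (h : Dx t a x K D T) (hx2 : ∃ k, orderOf x = 2 ^ k)
    (cen : ∀ g : G, g * t = t * g → (∀ k ∈ K, g * k = k * g) → g = 1 ∨ g = t)
    (cJ : ∀ g : G, g * t = t * g → (∀ j ∈ K, j * a = a * j → g * j = j * g) →
      g = 1 ∨ g = t ∨ g = a ∨ g = t * a) : x * x = 1 := by
  by_contra hne
  obtain ⟨j, hj⟩ := hx2
  have hj2 : 2 ≤ j := by
    by_contra hlt
    apply hne
    have hle : j = 0 ∨ j = 1 := by omega
    rcases hle with rfl | rfl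
    · rw [pow_zero, orderOf_eq_one_iff] at hj
      rw [hj, one_mul]
    · have := pow_orderOf_eq_one x
      rwa [hj, pow_one, pow_two] at this
  obtain ⟨i, rfl⟩ := Nat.exists_eq_add_of_le hj2
  set u := x ^ 2 ^ (i + 1) with hu
  have hu2 : u * u = 1 := by
    rw [hu, ← pow_add, ← two_mul, ← pow_succ']
    have := pow_orderOf_eq_one x
    rw [hj, show 2 + i = i + 1 + 1 by omega] at this
    exact this
  have hu1 : u ≠ 1 := by
    intro h1
    have h2 := orderOf_dvd_of_pow_eq_one h1
    rw [hj] at h2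
    have h3 := Nat.le_of_dvd (pow_pos two_pos _) h2
    have h4 : 2 ^ (i + 1) < 2 ^ (2 + i) := Nat.pow_lt_pow_right (by norm_num) (by omega)
    omega
  have huD : u ∈ D := pow_mem h.xD _
  have hut1 : ph t u = 1 := by
    rw [hu, h.ph_pow h.xD, h.xa, pow_succ', pow_mul, pow_two, h.aa, one_pow]
  have hut : u * t = t * u := by
    have h1 : t * u * t = u⁻¹ := eq_inv_of_mul_eq_one_right hut1
    have h2 : u⁻¹ = u := inv_eq_of_mul_eq_one_right hu2
    rw [h2] at h1
    calc u * t = t * u * t * t := by rw [h1]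
      _ = t * u * (t * t) := by group
      _ = t * u := by rw [h.tw.tt, mul_one]
  rcases h.one_or_a cJ hut (fun m hm => ((show Commute x m from h.xc m hm).pow_left _).eq) with h1 | h1
  · exact hu1 h1
  · have h2 : t * x * t = x⁻¹ * a := by
      have := h.xa
      unfold ph at this
      rw [← this]; group
    have hE := h.x_mem
    have h5 : u ∈ closure (xf K a x '' T) := pow_mem hE _
    have h6 : a ∈ closure (xf K a x '' T) := by
      have h7 : ∀ w : G, u = w → w ∈ closure (xf K a x '' T) := fun w hw => hw ▸ h5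
      exact h7 a h1
    have h3 : t * x * t ∈ closure (xf K a x '' T) := by
      rw [h2]
      exact mul_mem (inv_mem hE) h6
    have h4 := (h.wr cen).odd_of_mem hE h3
    rw [hj] at h4
    have h8 : Even (2 ^ (2 + i)) := Nat.even_pow.2 ⟨even_two, by omega⟩
    exact (Nat.not_odd_iff_even.2 h8) h4

/-- an element of `C(t) ∩ C(a)` permutes `x`, `xᵗ` -/
theorem conj_x [Finite G] (h : Dx t a x K D T) (hxx : x * x = 1)
    (cJ : ∀ g : G, g * t = t * g → (∀ j ∈ K, j * a = a * j → g * j = j * g) →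
      g = 1 ∨ g = t ∨ g = a ∨ g = t * a) {s : G} (hst : s * t = t * s) (hsa : s * a = a * s)
    (hsT : ∀ c ∈ T, s * c * s⁻¹ ∈ T) : s * x * s⁻¹ = x ∨ s * x * s⁻¹ = t * x * t := by
  set y := s * x * s⁻¹ with hy
  have hti := h.tw.tinv
  have htx : t * x * t = x * a := by
    have h1 := h.xa
    unfold ph at h1
    have h2 : x⁻¹ = x := inv_eq_of_mul_eq_one_right hxx
    calc t * x * t = x⁻¹ * (x * (t * x * t)) := by group
      _ = x * a := by rw [h1, h2]
  have hst' : s⁻¹ * t = t * s⁻¹ := (show Commute s t from hst).inv_left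
  have hty : t * y * t = y * a := by
    calc t * y * t = (t * s) * x * (s⁻¹ * t) := by rw [hy]; group
      _ = (s * t) * x * (t * s⁻¹) := by rw [hst, hst']
      _ = s * (t * x * t) * s⁻¹ := by group
      _ = s * x * (a * s⁻¹) := by rw [htx]; group
      _ = s * x * (s⁻¹ * a) := by rw [((show Commute s a from hsa).inv_left).eq]
      _ = y * a := by rw [hy]; group
  -- `y` centralises `D`
  have hyD : ∀ m ∈ D, y * m = m * y := by
    rcases h.comps s hsa with h1 | h1 | h1
    · intro m hm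
      have h2 : s⁻¹ * m * s ∈ D := by
        have := (mem_normalizer_iff.1 (inv_mem h1) m).1 hm
        rwa [inv_inv] at this
      have h3 := h.xc _ h2
      calc y * m = s * (x * (s⁻¹ * m * s)) * s⁻¹ := by rw [hy]; group
        _ = s * (s⁻¹ * m * s * x) * s⁻¹ := by rw [h3]
        _ = m * y := by rw [hy]; group
    · -- `t y t ∈ D`
      have h2 : t * y * t ∈ D := by
        have := (mem_normalizer_iff.1 h1 x).1 h.xD
        rw [mul_inv_rev, hti] at this
        have e : t * y * t = t * s * x * (s⁻¹ * t) := by rw [hy]; group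
        rw [e]; exact this
      intro m hm
      have := h.tw.comm m hm _ h2
      rw [h.tw.sg_sg] at this
      exact this.symm
    · exfalso
      obtain ⟨b, hb, hba, -, hbc, -⟩ := h.kf.nbr a h.aT a h.aT
      obtain ⟨m, hm, hmb⟩ := h.surj b (h.kf.TK b hb) hbc
      have hb' := hsT b hb
      have hne : a ≠ s * b * s⁻¹ := by
        intro e
        apply hba
        calc b = s⁻¹ * (s * b * s⁻¹) * s := by group
          _ = s⁻¹ * (a * s) := by rw [← e]; group
          _ = a := by rw [← hsa]; group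
      have hab : a * (s * b * s⁻¹) = s * b * s⁻¹ * a := by
        calc a * (s * b * s⁻¹) = (a * s) * b * s⁻¹ := by group
          _ = s * (a * b) * s⁻¹ := by rw [← hsa]; group
          _ = s * b * (a * s⁻¹) := by rw [← hbc]; group
          _ = s * b * (s⁻¹ * a) := by rw [((show Commute s a from hsa).inv_left).eq]
          _ = _ := by group
      apply h.nc hb' hne hab
      intro n hn
      obtain ⟨h2, -⟩ := h1 m hm n hn
      obtain ⟨-, h3⟩ := h1 m hm n hn
      -- `s (t m t) s⁻¹ = t (s m s⁻¹) t` commutes with `n`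
      have e1 : s * (t * m * t) * s⁻¹ = t * (s * m * s⁻¹) * t := by
        calc s * (t * m * t) * s⁻¹ = (s * t) * m * (t * s⁻¹) := by group
          _ = (t * s) * m * (s⁻¹ * t) := by rw [hst, hst']
          _ = _ := by group
      have h4 : t * (s * m * s⁻¹) * t * n = n * (t * (s * m * s⁻¹) * t) := by
        have : t * (s * m * s⁻¹ * (t * n * t)) * t = t * (t * n * t * (s * m * s⁻¹)) * t := by rw [h3]
        calc t * (s * m * s⁻¹) * t * n = t * (s * m * s⁻¹ * (t * n * t)) * t := by
              rw [show t * (s * m * s⁻¹ * (t * n * t)) * t = t * (s * m * s⁻¹) * t * n * (t * t) by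
                group, h.tw.tt, mul_one]
          _ = t * (t * n * t * (s * m * s⁻¹)) * t := this
          _ = (t * t) * n * (t * (s * m * s⁻¹) * t) := by group
          _ = _ := by rw [h.tw.tt, one_mul]
      have e2 : s * b * s⁻¹ = s * m * s⁻¹ * (t * (s * m * s⁻¹) * t) := by
        rw [← e1, ← hmb]
        unfold ph
        group
      rw [e2]
      calc s * m * s⁻¹ * (t * (s * m * s⁻¹) * t) * n
          = s * m * s⁻¹ * (t * (s * m * s⁻¹) * t * n) := by group
        _ = (s * m * s⁻¹ * n) * (t * (s * m * s⁻¹) * t) := by rw [h4]; group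
        _ = n * (s * m * s⁻¹ * (t * (s * m * s⁻¹) * t)) := by rw [h2]; group
  have hya : y * a = a * y := by
    have hxa : x * a = a * x := h.Da x h.xD
    calc y * a = s * x * (s⁻¹ * a) := by rw [hy]; group
      _ = s * x * (a * s⁻¹) := by rw [((show Commute s a from hsa).inv_left).eq]
      _ = s * (x * a) * s⁻¹ := by group
      _ = (s * a) * x * s⁻¹ := by rw [hxa]; group
      _ = a * y := by rw [hsa, hy]; group
  -- `x y` is fixed by `t`
  have hfix : (x * y) * t = t * (x * y) := by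
    have h1 : t * (x * y) * t = x * y := by
      rw [h.tw.sg_mul, htx, hty]
      calc x * a * (y * a) = x * (a * y) * a := by group
        _ = x * y * (a * a) := by rw [← hya]; group
        _ = x * y := by rw [h.aa, mul_one]
    calc (x * y) * t = t * (x * y) * t * t := by rw [h1]
      _ = t * (x * y) * (t * t) := by group
      _ = t * (x * y) := by rw [h.tw.tt, mul_one]
  have hxi : x⁻¹ = x := inv_eq_of_mul_eq_one_right hxx
  rcases h.one_or_a cJ hfix (by
    intro m hm
    calc x * y * m = x * (y * m) := by group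
      _ = (x * m) * y := by rw [hyD m hm]; group
      _ = m * (x * y) := by rw [h.xc m hm]; group) with h1 | h1
  · left
    rw [← hxi]
    exact eq_inv_of_mul_eq_one_right h1
  · right
    rw [htx, ← h1, ← mul_assoc, hxx, one_mul]

/-- `C_G(t)` permutes `E`, `Eᵗ` -/
theorem nor [Finite G] (h : Dx t a x K D T) (hxx : x * x = 1)
    (cJ : ∀ g : G, g * t = t * g → (∀ j ∈ K, j * a = a * j → g * j = j * g) →
      g = 1 ∨ g = t ∨ g = a ∨ g = t * a) {s : G} (hst : s * t = t * s)
    (hsT : ∀ c ∈ T, s * c * s⁻¹ ∈ T) : s ∈ normalizer (closure (xf K a x '' T) : Set G) ∨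
      t * s ∈ normalizer (closure (xf K a x '' T) : Set G) := by
  -- elements fixing `t`, `a`, `x`
  have key : ∀ r : G, r * a = a * r → r * x = x * r → (∀ c ∈ T, r * c * r⁻¹ ∈ T) →
      r ∈ normalizer (closure (xf K a x '' T) : Set G) := by
    intro r hra hrx hrT
    apply mem_normalizer_closure
    rintro _ ⟨b, hb, rfl⟩
    refine subset_closure ⟨r * b * r⁻¹, hrT b hb, ?_⟩
    have hrK : ∀ k ∈ K, r * k * r⁻¹ ∈ K := by
      intro k hk
      rw [← h.kf.gen] at hk ⊢
      induction hk using closure_induction with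
      | mem c hc => exact subset_closure (hrT c hc)
      | one => rw [mul_one, mul_inv_cancel]; exact one_mem _
      | mul c d _ _ h1 h2 =>
        have e : r * (c * d) * r⁻¹ = r * c * r⁻¹ * (r * d * r⁻¹) := by group
        rw [e]; exact mul_mem h1 h2
      | inv c _ h1 =>
        have e : r * c⁻¹ * r⁻¹ = (r * c * r⁻¹)⁻¹ := by group
        rw [e]; exact inv_mem h1
    obtain ⟨k, hk, rfl⟩ := h.exists_conj hb
    have hrk := hrK k hk
    have e1 : r * (k * a * k⁻¹) * r⁻¹ = (r * k * r⁻¹) * a * (r * k * r⁻¹)⁻¹ := by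
      have hra' : r⁻¹ * a * r = a := by rw [mul_assoc, ← hra]; group
      calc r * (k * a * k⁻¹) * r⁻¹ = r * k * (r⁻¹ * a * r) * k⁻¹ * r⁻¹ := by rw [hra']; group
        _ = _ := by group
    rw [e1, h.xf_eq hrk, h.xf_eq hk]
    have hrx' : r⁻¹ * x * r = x := by rw [mul_assoc, ← hrx]; group
    calc r * k * r⁻¹ * x * (r * k * r⁻¹)⁻¹ = r * k * (r⁻¹ * x * r) * k⁻¹ * r⁻¹ := by group
      _ = _ := by rw [hrx']; group
  -- reduction to `C(a)`
  obtain ⟨k, hk, hka⟩ := h.exists_conj (hsT a h.aT)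
  have hkN := h.K_nor hk
  set r := k⁻¹ * s with hr
  have hsr : s = k * r := by rw [hr]; group
  have hra : r * a = a * r := by
    have h1 : s * a = k * a * k⁻¹ * s := by rw [hka]; group
    calc r * a = k⁻¹ * (s * a) := by rw [hr]; group
      _ = a * r := by rw [h1, hr]; group
  have hkt := h.Kt k hk
  have hkt' : k⁻¹ * t = t * k⁻¹ := (show Commute k t from hkt).inv_left
  have hrt : r * t = t * r := by
    calc r * t = k⁻¹ * (s * t) := by rw [hr]; group
      _ = (k⁻¹ * t) * s := by rw [hst]; group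
      _ = t * r := by rw [hkt', hr]; group
  have hrT : ∀ c ∈ T, r * c * r⁻¹ ∈ T := by
    intro c hc
    have h1 := h.kf.conj k⁻¹ (inv_mem hk) _ (hsT c hc)
    have e : r * c * r⁻¹ = k⁻¹ * (s * c * s⁻¹) * k⁻¹⁻¹ := by rw [hr]; group
    rw [e]; exact h1
  rcases h.conj_x hxx cJ hrt hra hrT with h1 | h1
  · left
    rw [hsr]
    exact mul_mem hkN (key r hra (mul_inv_eq_iff_eq_mul.1 h1) hrT)
  · right
    have e : t * s = k * (t * r) := by
      rw [hsr]
      calc t * (k * r) = (t * k) * r := by group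
        _ = k * (t * r) := by rw [← hkt]; group
    rw [e]
    apply mul_mem hkN
    apply key
    · calc t * r * a = t * (r * a) := by group
        _ = (t * a) * r := by rw [hra]; group
        _ = a * (t * r) := by rw [h.ta]; group
    · have h2 : r * x = t * x * t * r := mul_inv_eq_iff_eq_mul.1 h1
      calc t * r * x = t * (r * x) := by group
        _ = (t * t) * x * (t * r) := by rw [h2]; group
        _ = x * (t * r) := by rw [h.tw.tt, one_mul]
    · intro c hc
      have h2 := hrT c hc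
      have h3 := h.Kt _ (h.kf.TK _ h2)
      have e2 : t * r * c * (t * r)⁻¹ = r * c * r⁻¹ := by
        calc t * r * c * (t * r)⁻¹ = (t * (r * c * r⁻¹)) * t⁻¹ := by group
          _ = r * c * r⁻¹ := by rw [← h3]; group
      rw [e2]; exact h2

end Dx

/-- **The swapped case.** -/
theorem Dg.exists_wr [Finite G] {t a : G} {K D : Subgroup G} {T : Set G} (h : Dg t a K D T)
    (cen : ∀ g : G, g * t = t * g → (∀ k ∈ K, g * k = k * g) → g = 1 ∨ g = t)
    (cJ : ∀ g : G, g * t = t * g → (∀ j ∈ K, j * a = a * j → g * j = j * g) →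
      g = 1 ∨ g = t ∨ g = a ∨ g = t * a) :
    ∃ E : Subgroup G, Wreath.Wr t K E ∧ (∀ k ∈ K, k ∈ normalizer (E : Set G)) ∧
      ∀ s : G, s * t = t * s → (∀ c ∈ T, s * c * s⁻¹ ∈ T) →
        s ∈ normalizer (E : Set G) ∨ t * s ∈ normalizer (E : Set G) := by
  obtain ⟨x, hx, hx2⟩ := h.exists_x
  exact ⟨closure (xf K a x '' T), hx.wr cen, fun k hk => hx.K_nor hk,
    fun s hst hsT => hx.nor (hx.xx hx2 cen cJ) cJ hst hsT⟩

end Cfsg.Agent.OddHalf.D8.Fi22

end
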